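import Mathlib

/-! The coefficient ideal of a linear map `v : E → F` into a finite projective module: the ideal
generated by all `l (v x)`; it commutes with base change and cuts out the vanishing locus of `v`. -/

universe u
open TensorProduct

namespace Groth.Agent.H5.VanSch

section Alg
variable {R : Type*} [CommRing R] {E F : Type*} [AddCommGroup E] [Module R E]
  [AddCommGroup F] [Module R F]

/-- the coefficient ideal of `v`. -/
def cI (v : E →ₗ[R] F) : Ideal R :=
  Ideal.span {a | ∃ (l : Module.Dual R F) (x : E), l (v x) = a}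

lemma mem_cI (v : E →ₗ[R] F) (l : Module.Dual R F) (x : E) : l (v x) ∈ cI v :=
  Ideal.subset_span ⟨l, x, rfl⟩

/-- dual basis expansion for a finite projective module. -/
lemma exists_dual_expansion (R F : Type*) [CommRing R] [AddCommGroup F] [Module R F]
    [Module.Finite R F] [Module.Projective R F] :
    ∃ (n : ℕ) (e : Fin n → F) (l : Fin n → Module.Dual R F), ∀ y : F, y = ∑ i, l i y • e i := by
  obtain ⟨n, f, g, -, -, hfg⟩ := Module.Finite.exists_comp_eq_id_of_projective R F
  refine ⟨n, fun i => f (Pi.single i 1), fun i => (LinearMap.proj i).comp g, fun y => ?_⟩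
  have h1 : y = f (g y) := by rw [← LinearMap.comp_apply, hfg]; rfl
  have h2 : g y = ∑ i, (g y i) • (Pi.single i (1 : R) : Fin n → R) := by
    ext j
    simp [Finset.sum_apply, Pi.single_apply]
  conv_lhs => rw [h1, h2]
  rw [map_sum]
  refine Finset.sum_congr rfl fun i _ => ?_
  rw [map_smul]
  rfl

variable {R' : Type*} [CommRing R'] [Algebra R R'] {E' F' : Type*}
  [AddCommGroup E'] [Module R E'] [Module R' E'] [IsScalarTower R R' E']
  [AddCommGroup F'] [Module R F'] [Module R' F'] [IsScalarTower R R' F']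
  {ιE : E →ₗ[R] E'} (hE : IsBaseChange R' ιE) {ιF : F →ₗ[R] F'} (hF : IsBaseChange R' ιF)
  {v : E →ₗ[R] F} {v' : E' →ₗ[R'] F'} (hv : ∀ x, v' (ιE x) = ιF (v x))

/-- the base change of a linear form. -/
noncomputable def dualBC (l : Module.Dual R F) : Module.Dual R' F' :=
  hF.lift ((Algebra.linearMap R R').comp l)

lemma dualBC_apply (l : Module.Dual R F) (y : F) :
    dualBC hF l (ιF y) = algebraMap R R' (l y) := by
  unfold dualBC
  rw [IsBaseChange.lift_eq]
  rfl

include hE hv in
lemma v'_eq_zero_of_le_ker [Module.Finite R F] [Module.Projective R F]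
    (h : cI v ≤ RingHom.ker (algebraMap R R')) : v' = 0 := by
  obtain ⟨n, e, l, hl⟩ := exists_dual_expansion R F
  refine hE.algHom_ext v' 0 fun x => ?_
  rw [hv, LinearMap.zero_apply, hl (v x), map_sum]
  refine Finset.sum_eq_zero fun i _ => ?_
  rw [map_smul, ← algebraMap_smul R' (l i (v x)) (ιF (e i)),
    (RingHom.mem_ker).1 (h (mem_cI v (l i) x)), zero_smul]

include hF hv in
lemma le_ker_of_v'_eq_zero (h : v' = 0) : cI v ≤ RingHom.ker (algebraMap R R') := by
  refine Ideal.span_le.2 ?_
  rintro a ⟨l, x, rfl⟩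
  rw [SetLike.mem_coe, RingHom.mem_ker, ← dualBC_apply hF l (v x), ← hv, h, LinearMap.zero_apply,
    map_zero]

include hE hF hv in
theorem cI_baseChange [Module.Finite R F] [Module.Projective R F] :
    cI v' = (cI v).map (algebraMap R R') := by
  apply le_antisymm
  · obtain ⟨n, e, l, hl⟩ := exists_dual_expansion R F
    refine Ideal.span_le.2 ?_
    rintro a ⟨l', x', rfl⟩
    rw [SetLike.mem_coe]
    refine hE.inductionOn x' (fun x' => l' (v' x') ∈ (cI v).map (algebraMap R R')) ?_ ?_ ?_ ?_
    · rw [map_zero, map_zero]; exact Ideal.zero_mem _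
    · intro x
      rw [hv, hl (v x), map_sum, map_sum]
      refine Ideal.sum_mem _ fun i _ => ?_
      rw [map_smul, ← algebraMap_smul R' (l i (v x)) (ιF (e i)), map_smul, smul_eq_mul]
      exact Ideal.mul_mem_right _ _ (Ideal.mem_map_of_mem _ (mem_cI v (l i) x))
    · intro r' y hy
      rw [map_smul, map_smul, smul_eq_mul]
      exact Ideal.mul_mem_left _ _ hy
    · intro y₁ y₂ h₁ h₂
      rw [map_add, map_add]
      exact Ideal.add_mem _ h₁ h₂
  · rw [Ideal.map_le_iff_le_comap]
    refine Ideal.span_le.2 ?_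
    rintro a ⟨l, x, rfl⟩
    rw [SetLike.mem_coe, Ideal.mem_comap, ← dualBC_apply hF l (v x), ← hv]
    exact mem_cI v' (dualBC hF l) (ιE x)

end Alg

end Groth.Agent.H5.VanSch
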