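import Groth.Agent.Lib.Helper5.VanSch.Alg
import Groth.Agent.Lib.Helper5.EtSplit.Geo
import Groth.Agent.Lib.Lead.QC.LocFree3
import Mathlib.AlgebraicGeometry.IdealSheaf.Subscheme
import Mathlib.AlgebraicGeometry.Morphisms.ClosedImmersion

/-! The vanishing scheme of a homomorphism `v : E ⟶ F` of quasi-coherent modules with `F` finite
locally free: the closed subscheme of the coefficient ideal sheaf. -/

universe u
open CategoryTheory Limits AlgebraicGeometry TopologicalSpace Opposite TensorProduct

namespace Groth.Agent.H5.VanSch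
open Groth.Agent.LD.QC Groth.Agent.H5.ExtTilde Groth.Agent.H5.EtSplit

variable {S : Scheme.{u}} {E F : S.Modules} [E.IsQuasicoherent] [F.IsQuasicoherent]
  (hF : FlatMod.IsFinLocFree F) (v : E ⟶ F)

include hF in
lemma finite_sections {U : S.Opens} (hU : IsAffineOpen U) : Module.Finite Γ(S, U) Γ(F, U) :=
  haveI := ((isFinLocFree_iff_sections F).1 hF U hU).1
  inferInstance

include hF in
lemma projective_sections {U : S.Opens} (hU : IsAffineOpen U) :
    Module.Projective Γ(S, U) Γ(F, U) :=
  haveI := ((isFinLocFree_iff_sections F).1 hF U hU).1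
  haveI := ((isFinLocFree_iff_sections F).1 hF U hU).2
  Module.Flat.projective_of_finitePresentation

lemma rho_eq {U V : S.Opens} (h : V ≤ U) : rho h = (S.presheaf.map (homOfLE h).op).hom :=
  RingHom.ext (rho_apply h)

include hF in
lemma cI_res {U V : S.Opens} (hU : IsAffineOpen U) (hV : IsAffineOpen V) (h : V ≤ U) :
    (cI (appL v U)).map (S.presheaf.map (homOfLE h).op).hom = cI (appL v V) := by
  letI := algRes h
  letI := modRes E h
  letI := modRes F h
  haveI := tower_res E h
  haveI := tower_res F h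
  haveI := finite_sections hF hU
  haveI := projective_sections hF hU
  have key := cI_baseChange (isBaseChange_resL E hU hV h) (isBaseChange_resL F hU hV h)
    (v := appL v U) (v' := appL v V) (fun x => app_res v h x)
  rw [key, ← rho_eq]
  rfl

/-- the coefficient ideal sheaf of `v`. -/
noncomputable def vI : S.IdealSheafData where
  ideal U := cI (appL v U.1)
  map_ideal_basicOpen U f := cI_res hF v U.2 (U.2.basicOpen f) (S.basicOpen_le f)

lemma vI_ideal (U : S.affineOpens) : (vI hF v).ideal U = cI (appL v U.1) := rfl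

section Pull
variable {T : Scheme.{u}} (f : T ⟶ S)

include hF in
/-- on an affine `T' ⊆ f⁻¹ U`, the pullback of `v` vanishes iff the coefficient ideal dies. -/
lemma pull_app_eq_zero_iff {U : S.Opens} {T' : T.Opens} (hU : IsAffineOpen U)
    (hT' : IsAffineOpen T') (h : T' ≤ f ⁻¹ᵁ U) :
    appL ((Scheme.Modules.pullback f).map v) T' = 0 ↔
      cI (appL v U) ≤ RingHom.ker (f.appLE U T' h).hom := by
  letI := (f.appLE U T' h).hom.toAlgebra
  letI := pbModule f E h
  letI := pbModule f F h
  haveI := pbModule_isScalarTower f E h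
  haveI := pbModule_isScalarTower f F h
  haveI := finite_sections hF hU
  haveI := projective_sections hF hU
  have hv : ∀ x, appL ((Scheme.Modules.pullback f).map v) T' (pbSecₗ f E h x) =
      pbSecₗ f F h (appL v U x) := fun x => pbSec_naturality f v h x
  constructor
  · intro h0
    exact le_ker_of_v'_eq_zero (isBaseChange_pbSec f hT' hU h F) hv h0
  · intro hle
    exact v'_eq_zero_of_le_ker (isBaseChange_pbSec f hT' hU h E) hv hle

lemma appL_zero {Y : Scheme.{u}} (M N : Y.Modules) (W : Y.Opens) :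
    appL (0 : M ⟶ N) W = 0 := by
  ext x
  rfl

include hF in
/-- if `f^* v = 0` then `f` factors through the closed subscheme of the coefficient ideal. -/
theorem exists_lift_of_pull_eq_zero (h0 : (Scheme.Modules.pullback f).map v = 0) :
    ∃ g : T ⟶ (vI hF v).subscheme, g ≫ (vI hF v).subschemeι = f := by
  refine ⟨IsClosedImmersion.lift (vI hF v).subschemeι f ?_, IsClosedImmersion.lift_fac _ _ _⟩
  rw [Scheme.IdealSheafData.ker_subschemeι]
  refine Scheme.IdealSheafData.le_ofIdeals_iff.2 ?_
  intro U a ha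
  rw [vI_ideal] at ha
  rw [RingHom.mem_ker]
  apply TopCat.Sheaf.eq_of_locally_eq' T.sheaf
    (fun W : {W : T.affineOpens // W.1 ≤ f ⁻¹ᵁ U.1} => W.1.1) (f ⁻¹ᵁ U.1)
    (fun W => homOfLE W.2) (le_iSup_affineOpens (f ⁻¹ᵁ U.1))
  intro W
  have h1 : appL ((Scheme.Modules.pullback f).map v) W.1.1 = 0 := by
    rw [h0, appL_zero]
  have h2 := (pull_app_eq_zero_iff hF v f U.2 W.1.2 W.2).1 h1 ha
  rw [RingHom.mem_ker] at h2
  refine Eq.trans ?_ (map_zero _).symm
  exact h2

include hF in
/-- the pullback of `v` along a morphism factoring through the closed subscheme vanishes. -/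
theorem pull_eq_zero_of_factor (g : T ⟶ (vI hF v).subscheme) :
    (Scheme.Modules.pullback (g ≫ (vI hF v).subschemeι)).map v = 0 := by
  classical
  set f := g ≫ (vI hF v).subschemeι with hf
  let P : T.affineOpens → Prop := fun W => ∃ U : S.affineOpens, W.1 ≤ f ⁻¹ᵁ U.1
  have hPcov : ∀ x : T, ∃ W : T.affineOpens, P W ∧ x ∈ W.1 := by
    intro x
    obtain ⟨U, hU, hxU, -⟩ := exists_isAffineOpen_mem_and_subset (x := f x) (U := ⊤) trivial
    obtain ⟨W, hW, hxW, hWle⟩ := exists_isAffineOpen_mem_and_subset (x := x) (U := f ⁻¹ᵁ U) hxU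
    exact ⟨⟨W, hW⟩, ⟨⟨U, hU⟩, hWle⟩, hxW⟩
  have hPdown : ∀ W W' : T.affineOpens, P W → W'.1 ≤ W.1 → P W' := by
    rintro W W' ⟨U, hU⟩ h
    exact ⟨U, h.trans hU⟩
  apply Scheme.Modules.hom_ext
  intro O
  ext x
  apply section_ext_of_cover ((Scheme.Modules.pullback f).obj F)
    (fun W : {W : {W : T.affineOpens // P W} // W.1.1 ≤ O} => W.1.1.1)
    (fun W => W.2) (Lim.le_iSup_PFam P hPcov hPdown O)
  rintro ⟨⟨W, U, hWU⟩, hWO⟩
  rw [← app_res, ← app_res]
  have h1 : appL ((Scheme.Modules.pullback f).map v) W.1 = 0 := by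
    refine (pull_app_eq_zero_iff hF v f U.2 W.2 hWU).2 ?_
    intro a ha
    rw [RingHom.mem_ker]
    have h3 : (vI hF v).subschemeι.app U.1 a = 0 := by
      have h4 := (vI hF v).ker_subschemeι_app U
      rw [← RingHom.mem_ker, h4]
      exact ha
    have h5 : f.appLE U.1 W.1 hWU = (vI hF v).subschemeι.app U.1 ≫ g.appLE _ W.1 hWU :=
      Scheme.Hom.comp_appLE g (vI hF v).subschemeι U.1 W.1 hWU
    rw [h5, CommRingCat.hom_comp, RingHom.comp_apply]
    erw [h3]
    rw [map_zero]
  have h2 := LinearMap.congr_fun h1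
    (((Scheme.Modules.pullback f).obj E).presheaf.map (homOfLE hWO).op x)
  exact h2

end Pull

include hF in
/-- **the vanishing scheme of `v : E ⟶ F`**, `F` finite locally free. -/
theorem vanishing_scheme :
    ∃ I : S.IdealSheafData, ∀ (T : Scheme.{u}) (f : T ⟶ S),
      (∃ g : T ⟶ I.subscheme, g ≫ I.subschemeι = f) ↔ (Scheme.Modules.pullback f).map v = 0 := by
  refine ⟨vI hF v, fun T f => ⟨?_, fun h0 => exists_lift_of_pull_eq_zero hF v f h0⟩⟩
  rintro ⟨g, rfl⟩
  exact pull_eq_zero_of_factor hF v g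

end Groth.Agent.H5.VanSch
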